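import Cfsg.Agent.Lib.Known.TwistAut.Borel
import Cfsg.Agent.Lib.Known.AutPSL.Structure
import Cfsg.Agent.Lib.Lie.Twisted.G2Coords
import Cfsg.Agent.Lib.Lie.Rel.FieldAut
import Cfsg.Prelude.Def_LieTwisted
import Cfsg.Prelude.Def_KGroupFacts

/-!
# The outer automorphisms of the small Ree groups
-/

set_option autoImplicit false
set_option linter.style.haveILetI false

namespace CfsgLib.Known.TwistAut.Ree

open CfsgLib.Lie.Chev CfsgLib.Lie.Chev.TwGroups Cfsg.Lie

variable {K : Type*} [Field K] [Fintype K] {m : ℕ} (hK : Fintype.card K = 3 ^ (2 * m + 1))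

/-- the Ree group inside the Chevalley group -/
noncomputable abbrev P : Subgroup ↥(chevG2.group K) := (twG2 hK).P1

/-- the twisting exponent -/
noncomputable def th (x : K) : K := (x ^ 3 ^ m) ^ (3 : ℕ)

/-- unipotent elements -/
noncomputable def xu (t u v : K) : ↥(P hK) := ⟨xU m t u v, xU_mem m t u v⟩

/-- torus elements -/
noncomputable def ps : Kˣ →* ↥(P hK) :=
  (psiG2 K m).codRestrict (P hK) fun c => psiG2_mem hK c

theorem xu_inj {t u v t' u' v' : K} (h : xu hK t u v = xu hK t' u' v') : t = t' ∧ u = u' ∧ v = v' :=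
  xU_inj hK (congrArg Subtype.val h)

theorem xu_zero : xu hK 0 0 0 = 1 := Subtype.ext (xU_zero hK)

theorem xu_mul (a u v b u' v' : K) :
    xu hK a u v * xu hK b u' v' =
      xu hK (a + b) (u + u' - th (m := m) b * a)
        (v + v' - b * u - th (m := m) b * a ^ (2 : ℕ) + th (m := m) b * a * b) :=
  Subtype.ext (xU_mul hK a u v b u' v')

theorem ps_conj (c : Kˣ) (t u v : K) :
    ps hK c * xu hK t u v * (ps hK c)⁻¹ =
      xu hK ((c : K) ^ (2 : ℕ) * (th (m := m) (c : K))⁻¹ * t) (th (m := m) (c : K) * (c : K)⁻¹ * u) ((c : K) * v) :=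
  Subtype.ext (psiG2_conj_xU hK c t u v)

theorem mem_U1_iff' (g : ↥(P hK)) : g ∈ (twG2 hK).U1 ↔ ∃ t u v : K, g = xu hK t u v := by
  constructor
  · intro hg
    have hc : (g : ↥(chevG2.group K)) ∈ (twG2 hK).P1 ⊓ (chevRel certG2 K).US (posSub chevG2 auxG2 orbG2 0) :=
      U1_eq_class_G2 hK ▸ Subgroup.mem_inf.2 ⟨g.2, hg⟩
    obtain ⟨t, u, v, e⟩ := classG2_fixed hK (Subgroup.mem_inf.1 hc).2 ((twG2 hK).hfix _ g.2)
    exact ⟨t, u, v, Subtype.ext e⟩
  · rintro ⟨t, u, v, rfl⟩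
    have hc : xU m t u v ∈ (twG2 hK).P1 ⊓ (chevRel certG2 K).UP :=
      (U1_eq_class_G2 hK).symm ▸ Subgroup.mem_inf.2 ⟨xU_mem m t u v, xU_mem_class hK t u v⟩
    exact (Subgroup.mem_inf.1 hc).2

theorem mem_H1_iff' (g : ↥(P hK)) : g ∈ (twG2 hK).H1 ↔ ∃ c : Kˣ, g = ps hK c := by
  constructor
  · intro hg
    have h : (g : ↥(chevG2.group K)) ∈ (psiG2 K m).range := by
      rw [psiG2_range hK]; exact Subgroup.mem_inf.2 ⟨g.2, hg⟩
    obtain ⟨c, hc⟩ := h
    exact ⟨c, Subtype.ext hc.symm⟩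
  · rintro ⟨c, rfl⟩
    have h : psiG2 K m c ∈ (twG2 hK).P1 ⊓ (chevRel certG2 K).HS := psiG2_range hK ▸ ⟨c, rfl⟩
    exact (Subgroup.mem_inf.1 h).2

include hK in
theorem th_add (x y : K) : th (m := m) (x + y) = th (m := m) x + th (m := m) y := by
  rw [th, th, th, add_powG2 hK, add_cubeG2 hK]

theorem th_mul (x y : K) : th (m := m) (x * y) = th (m := m) x * th (m := m) y := by
  rw [th, th, th, mul_pow, mul_pow]

include hK in
theorem th_th (x : K) : th (m := m) (th (m := m) x) = x ^ (3 : ℕ) := by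
  rw [th, th, pow_twG2' hK]

theorem th_ne_zero {x : K} (hx : x ≠ 0) : th (m := m) x ≠ 0 := pow_ne_zero _ (pow_ne_zero _ hx)

theorem th_one : th (m := m) (1 : K) = 1 := by rw [th, one_pow, one_pow]

theorem th_neg (x : K) : th (m := m) (-x) = -th (m := m) x := by
  rw [th, th, neg_powG2, neg_cubeG2]

include hK in
theorem card_ge (hm : 1 ≤ m) : 27 ≤ Fintype.card K := by
  rw [hK]
  exact le_trans (by norm_num) (Nat.pow_le_pow_right (show 1 ≤ 3 by norm_num) (show 3 ≤ 2 * m + 1 by omega))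

include hK in
theorem th_not_id (hm : 1 ≤ m) : ∃ x : K, th (m := m) x ≠ x := by
  by_contra h
  push Not at h
  classical
  open Polynomial in
  have hsub : (Finset.univ : Finset K) ⊆ ((X : K[X]) ^ 3 - X).roots.toFinset := by
    intro x _
    have hne : ((X : K[X]) ^ 3 - X) ≠ 0 := fun e => by
      have := congrArg (fun p : K[X] => p.coeff 3) e
      simp [coeff_X] at this
    rw [Multiset.mem_toFinset, mem_roots hne]
    have h3 := th_th hK x
    rw [h, h] at h3
    simp only [IsRoot, eval_sub, eval_pow, eval_X]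
    rw [← h3, sub_self]
  open Polynomial in
  have h3 : ((X : K[X]) ^ 3 - X).roots.toFinset.card ≤ 3 :=
    (Multiset.toFinset_card_le _).trans ((card_roots' _).trans (by
      rw [natDegree_sub_eq_left_of_natDegree_lt] <;> simp))
  have := Finset.card_le_card hsub
  rw [Finset.card_univ] at this
  have := card_ge hK hm
  omega

include hK in
theorem char_three : CharP K 3 := charG2 hK

include hK in
theorem two_ne : (2 : K) ≠ 0 := fun h => by
  have h3 := three_eq_zero_G2 hK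
  exact one_ne_zero (show (1 : K) = 0 by linear_combination h3 - h)

/-! ### field automorphisms -/

theorem glMap_xU (γ : K ≃+* K) (t u v : K) :
    fieldAut chevG2 γ (xU m t u v) = xU m (γ t) (γ u) (γ v) := by
  have hx : ∀ r a, fieldAut chevG2 γ (xG certG2 K r a) = xG certG2 K r (γ a) := fun r a =>
    Subtype.ext (Units.ext (fieldAut_spec chevG2 γ _ r a rfl))
  simp only [xU, xRee, map_mul, hx, map_pow, map_add, map_one]

theorem glMap_xV (γ : K ≃+* K) (t u v : K) :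
    fieldAut chevG2 γ (xV m t u v) = xV m (γ t) (γ u) (γ v) := by
  have hx : ∀ r a, fieldAut chevG2 γ (xG certG2 K r a) = xG certG2 K r (γ a) := fun r a =>
    Subtype.ext (Units.ext (fieldAut_spec chevG2 γ _ r a rfl))
  simp only [xV, xRee, map_mul, hx, map_pow, map_add, map_neg, map_one]

theorem P_eq_closure : P hK = Subgroup.closure (wordG certG2 '' g2Words K (3 ^ m)) :=
  genSubgroup_subgroupOf certG2 _

theorem fieldAut_mem (γ : K ≃+* K) {g : ↥(chevG2.group K)} (hg : g ∈ P hK) : fieldAut chevG2 γ g ∈ P hK := by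
  refine (show P hK ≤ (P hK).comap (fieldAut chevG2 γ).toMonoidHom from ?_) hg
  conv_lhs => rw [P_eq_closure hK]
  rw [Subgroup.closure_le]
  rintro _ ⟨w, ⟨t, u, v, rfl | rfl⟩, rfl⟩
  · show fieldAut chevG2 γ (wordG certG2 _) ∈ P hK
    rw [wordG_reeU, glMap_xU]
    exact xU_mem m _ _ _
  · show fieldAut chevG2 γ (wordG certG2 _) ∈ P hK
    rw [wordG_reeV, glMap_xV]
    exact xV_mem m _ _ _

/-- a field automorphism of the Ree group -/
noncomputable def fa (γ : K ≃+* K) : MulAut ↥(P hK) where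
  toFun g := ⟨fieldAut chevG2 γ g, fieldAut_mem hK γ g.2⟩
  invFun g := ⟨fieldAut chevG2 γ.symm g, fieldAut_mem hK γ.symm g.2⟩
  left_inv g := Subtype.ext ((fieldAut chevG2 γ).symm_apply_apply g)
  right_inv g := Subtype.ext ((fieldAut chevG2 γ).apply_symm_apply g)
  map_mul' a b := Subtype.ext (map_mul (fieldAut chevG2 γ) (a : ↥(chevG2.group K)) b)

/-- the homomorphism of field automorphisms -/
noncomputable def faHom : (K ≃+* K) →* MulAut ↥(P hK) :=
  MonoidHom.mk' (fa hK) fun γ δ => MulEquiv.ext fun g => Subtype.ext (Subtype.ext (Units.ext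
    (Matrix.ext fun i j => rfl)))

theorem fa_xu (γ : K ≃+* K) (t u v : K) : fa hK γ (xu hK t u v) = xu hK (γ t) (γ u) (γ v) :=
  Subtype.ext (glMap_xU γ t u v)

theorem fa_mem_fixUV (γ : K ≃+* K) : fa hK γ ∈ (twG2 hK).fixUV := by
  have hx : ∀ r a, fieldAut chevG2 γ (xG certG2 K r a) = xG certG2 K r (γ a) := fun r a =>
    Subtype.ext (Units.ext (fieldAut_spec chevG2 γ _ r a rfl))
  have hUS : ∀ S : Set (Fin chevG2.nroots), ∀ g : ↥(chevG2.group K), g ∈ (chevRel certG2 K).US S →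
      fieldAut chevG2 γ g ∈ (chevRel certG2 K).US S := fun S g hg => by
    refine (show (chevRel certG2 K).US S ≤ ((chevRel certG2 K).US S).comap (fieldAut chevG2 γ).toMonoidHom from
      (chevRel certG2 K).US_le fun r hr t => ?_) hg
    show fieldAut chevG2 γ (xG certG2 K r t) ∈ (chevRel certG2 K).US S
    rw [hx]
    exact (chevRel certG2 K).xe_mem_US hr _
  have key : ∀ S : Set (Fin chevG2.nroots), (((chevRel certG2 K).US S).subgroupOf (P hK)).map
      (fa hK γ).toMonoidHom = ((chevRel certG2 K).US S).subgroupOf (P hK) := fun S => by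
    refine Subgroup.eq_of_le_of_card_ge ?_ (le_of_eq (Nat.card_congr
      ((((chevRel certG2 K).US S).subgroupOf (P hK)).equivMapOfInjective _ (fa hK γ).injective).toEquiv))
    rintro _ ⟨g, hg, rfl⟩
    exact hUS S _ hg
  exact ⟨key _, key _⟩

/-! ### determination of an automorphism fixing both unipotent subgroups -/

theorem exists_xu {φ : MulAut ↥(P hK)} (hφ : φ ∈ (twG2 hK).fixUV) (t u v : K) :
    ∃ t' u' v' : K, φ (xu hK t u v) = xu hK t' u' v' :=
  (mem_U1_iff' hK _).1 (((twG2 hK).fixUV_mem_U1 hφ).2 ((mem_U1_iff' hK _).2 ⟨t, u, v, rfl⟩))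

theorem exists_ps {φ : MulAut ↥(P hK)} (hφ : φ ∈ (twG2 hK).fixUV) (c : Kˣ) :
    ∃ c' : Kˣ, φ (ps hK c) = ps hK c' :=
  (mem_H1_iff' hK _).1 ((twG2 hK).fixUV_mem_H1 hφ ((mem_H1_iff' hK _).2 ⟨c, rfl⟩))

theorem central_iff (hm : 1 ≤ m) (a u v : K) :
    (∀ b u' v' : K, Commute (xu hK a u v) (xu hK b u' v')) ↔ a = 0 ∧ u = 0 := by
  constructor
  · intro h
    have e : ∀ b : K, th (m := m) b * a = th (m := m) a * b ∧
        -(b * u) - th (m := m) b * a ^ (2 : ℕ) + th (m := m) b * a * b =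
          -th (m := m) a * b ^ (2 : ℕ) + th (m := m) a * b * a := by
      intro b
      have := h b 0 0
      rw [Commute, SemiconjBy, xu_mul, xu_mul] at this
      obtain ⟨-, h2, h3⟩ := xu_inj hK this
      constructor
      · linear_combination -h2
      · linear_combination h3
    have ha : a = 0 := by
      by_contra ha
      obtain ⟨x, hx⟩ := th_not_id hK hm
      have h1 := (e 1).1
      rw [th_one, one_mul, mul_one] at h1
      have h2 := (e x).1
      rw [← h1] at h2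
      exact hx (mul_right_cancel₀ ha (by rw [h2, mul_comm]))
    subst ha
    refine ⟨rfl, ?_⟩
    have := (e 1).2
    simp [th_one, show th (m := m) (0 : K) = 0 by
      rw [th, zero_pow (pow_ne_zero m three_ne_zero), zero_pow three_ne_zero]] at this
    exact this
  · rintro ⟨rfl, rfl⟩ b u' v'
    rw [Commute, SemiconjBy, xu_mul, xu_mul]
    congr 1
    · ring
    · simp [th, zero_pow (pow_ne_zero m three_ne_zero)]
    · simp [th, zero_pow (pow_ne_zero m three_ne_zero)]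
      ring

theorem exists_center {φ : MulAut ↥(P hK)} (hm : 1 ≤ m) (hφ : φ ∈ (twG2 hK).fixUV) (v : K) :
    ∃ v' : K, φ (xu hK 0 0 v) = xu hK 0 0 v' := by
  obtain ⟨a, u, w, e⟩ := exists_xu hK hφ 0 0 v
  obtain ⟨rfl, rfl⟩ := (central_iff hK hm a u w).1 fun b u' v' => by
    obtain ⟨y, hy⟩ := φ.surjective (xu hK b u' v')
    obtain ⟨b₀, u₀, v₀, rfl⟩ := (mem_U1_iff' hK y).1
      (((twG2 hK).fixUV_mem_U1 hφ).1 (hy ▸ (mem_U1_iff' hK _).2 ⟨b, u', v', rfl⟩))
    rw [← e, ← hy]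
    exact ((central_iff hK hm 0 0 v).2 ⟨rfl, rfl⟩ b₀ u₀ v₀).map φ
  exact ⟨w, e⟩

theorem exists_field (hm : 1 ≤ m) {φ : MulAut ↥(P hK)} (hφ : φ ∈ (twG2 hK).fixUV) :
    ∃ (γ : K ≃+* K) (c : Kˣ), (∀ v, φ (xu hK 0 0 v) = (MulAut.conj (ps hK c) * fa hK γ) (xu hK 0 0 v)) ∧
      MulAut.conj (ps hK c) * fa hK γ ∈ (twG2 hK).fixUV ∧
      ((MulAut.conj (ps hK c) * fa hK γ)⁻¹ * φ) ∈ (twG2 hK).fixUV := by
  choose f hf using exists_center hK hm hφ
  choose τ hτ using exists_ps hK hφ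
  have hinj : ∀ {v w : K}, xu hK 0 0 v = xu hK 0 0 w → v = w := fun h => (xu_inj hK h).2.2
  have h0 : th (m := m) (0 : K) = 0 := by
    rw [th, zero_pow (pow_ne_zero m three_ne_zero), zero_pow three_ne_zero]
  have hadd : ∀ x y, f (x + y) = f x + f y := fun x y => hinj (by
    have e : ∀ x y : K, xu hK 0 0 x * xu hK 0 0 y = xu hK 0 0 (x + y) := fun x y => by
      rw [xu_mul, h0]; congr 1 <;> ring
    rw [← hf, ← e x y, map_mul, hf, hf, e])
  have hscale : ∀ (c : Kˣ) (v : K), f ((c : K) * v) = (τ c : K) * f v := fun c v => hinj (by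
    have e : ∀ (c : Kˣ) (v : K), ps hK c * xu hK 0 0 v * (ps hK c)⁻¹ = xu hK 0 0 ((c : K) * v) := fun c v => by
      rw [ps_conj, mul_zero, mul_zero]
    rw [← hf, ← e c v, map_mul, map_mul, map_inv, hτ, hf, e])
  have hfinj : Function.Injective f := fun x y e => hinj (φ.injective (by rw [hf, hf, e]))
  have hf0 : f 0 = 0 := by simpa using hadd 0 0
  have hc : f 1 ≠ 0 := fun e => one_ne_zero (hfinj (e.trans hf0.symm))
  have hmulf : ∀ x y, f (x * y) = f x * f y / f 1 := by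
    intro x y
    rcases eq_or_ne x 0 with rfl | hx
    · simp [hf0]
    have h1 := hscale (Units.mk0 x hx) y
    have h2 := hscale (Units.mk0 x hx) 1
    rw [Units.val_mk0] at h1 h2
    rw [mul_one] at h2
    rw [h1, h2]
    field_simp
  let e : K →+* K :=
    { toFun := fun x => f x / f 1
      map_one' := div_self hc
      map_mul' := fun x y => by rw [hmulf]; field_simp
      map_zero' := by rw [hf0, zero_div]
      map_add' := fun x y => by rw [hadd, add_div] }
  let γ : K ≃+* K := RingEquiv.ofBijective e (Finite.injective_iff_bijective.1 e.injective)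
  have hmem : MulAut.conj (ps hK (Units.mk0 (f 1) hc)) * fa hK γ ∈ (twG2 hK).fixUV := by
    refine mul_mem ?_ (fa_mem_fixUV hK γ)
    have hH := (mem_H1_iff' hK _).2 ⟨Units.mk0 (f 1) hc, rfl⟩
    constructor
    · refine Subgroup.eq_of_le_of_card_ge ?_ (le_of_eq (Nat.card_congr
        ((twG2 hK).U1.equivMapOfInjective _ (MulAut.conj (ps hK (Units.mk0 (f 1) hc))).injective).toEquiv))
      rintro _ ⟨x, hx, rfl⟩
      exact (twG2 hK).B1_le_normalizer ((chevRel certG2 K).HS_le_BS hH) hx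
    · refine Subgroup.eq_of_le_of_card_ge ?_ (le_of_eq (Nat.card_congr
        ((twG2 hK).V1.equivMapOfInjective _ (MulAut.conj (ps hK (Units.mk0 (f 1) hc))).injective).toEquiv))
      rintro _ ⟨x, hx, rfl⟩
      exact (twG2 hK).H1_normalises_V1 hH hx
  refine ⟨γ, Units.mk0 (f 1) hc, fun v => ?_, hmem, mul_mem (inv_mem hmem) hφ⟩
  show φ (xu hK 0 0 v) = ps hK _ * fa hK γ (xu hK 0 0 v) * (ps hK _)⁻¹
  rw [fa_xu, map_zero, ps_conj, mul_zero, mul_zero, hf, Units.val_mk0]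
  congr 1
  exact (mul_div_cancel₀ _ hc).symm

theorem ps_fixed {φ : MulAut ↥(P hK)} (hφ : φ ∈ (twG2 hK).fixUV)
    (hz : ∀ v, φ (xu hK 0 0 v) = xu hK 0 0 v) (c : Kˣ) : φ (ps hK c) = ps hK c := by
  obtain ⟨d, hd⟩ := exists_ps hK hφ c
  have e : ∀ c : Kˣ, ps hK c * xu hK 0 0 1 * (ps hK c)⁻¹ = xu hK 0 0 (c : K) := fun c => by
    rw [ps_conj, mul_zero, mul_zero, mul_one]
  have h := congrArg φ (e c)
  rw [map_mul, map_mul, map_inv, hd, hz, hz, e] at h
  rw [hd, Units.ext (xu_inj hK h).2.2]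

theorem fix_order_three (hm : 1 ≤ m) {φ : MulAut ↥(P hK)} (hφ : φ ∈ (twG2 hK).fixUV)
    (hz : ∀ v, φ (xu hK 0 0 v) = xu hK 0 0 v) : ∀ a u v, φ (xu hK a u v) = xu hK a u v := by
  have hψ := ps_fixed hK hφ hz
  have h2 := two_ne hK
  have h3 : (3 : K) = 0 := three_eq_zero_G2 hK
  have h0 : th (m := m) (0 : K) = 0 := by
    rw [th, zero_pow (pow_ne_zero m three_ne_zero), zero_pow three_ne_zero]
  -- the element of order two of the torus
  have hneg : ∀ a u v : K, ps hK (-1) * xu hK a u v * (ps hK (-1))⁻¹ = xu hK (-a) u (-v) := fun a u v => by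
    rw [ps_conj, Units.val_neg, Units.val_one, th_neg, th_one]
    congr 1 <;> simp
  -- cubes
  have hcube : ∀ a u v : K, xu hK a u v * xu hK a u v * xu hK a u v =
      xu hK 0 0 (-(th (m := m) a * a ^ (2 : ℕ))) := fun a u v => Subtype.ext (xU_cube hK a u v)
  choose g μ h hgμh using fun u => exists_xu hK hφ 0 u 0
  have hg0 : ∀ u, g u = 0 := by
    intro u
    have h1 := congrArg φ (hcube 0 u 0)
    rw [map_mul, map_mul, hgμh, hcube, hz] at h1
    have h4 := (xu_inj hK h1).2.2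
    rw [h0, zero_mul, neg_inj] at h4
    by_contra hne
    exact mul_ne_zero (th_ne_zero hne) (pow_ne_zero _ hne) h4
  have hh0 : ∀ u, h u = 0 := by
    intro u
    have h1 := congrArg φ (hneg 0 u 0)
    rw [map_mul, map_mul, map_inv, hψ, hgμh, hneg, neg_zero, hgμh] at h1
    have h4 := (xu_inj hK h1).2.2
    exact (mul_eq_zero.1 (show (2 : K) * h u = 0 by linear_combination -h4)).resolve_left h2
  have hU : ∀ u, φ (xu hK 0 u 0) = xu hK 0 (μ u) 0 := fun u => by rw [hgμh, hg0, hh0]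
  -- the first coordinate
  choose α ν ρ hαρ using fun a => exists_xu hK hφ a 0 0
  have hα : ∀ a, α a = a := by
    intro a
    have h1 := congrArg φ (hcube a 0 0)
    rw [map_mul, map_mul, hαρ, hcube, hz] at h1
    have h4 := neg_inj.1 (xu_inj hK h1).2.2
    rcases eq_or_ne a 0 with rfl | ha
    · rw [h0, zero_mul] at h4
      by_contra hne
      exact mul_ne_zero (th_ne_zero hne) (pow_ne_zero _ hne) h4
    have hαa : α a ≠ 0 := fun e => by
      rw [e, h0, zero_mul] at h4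
      exact mul_ne_zero (th_ne_zero ha) (pow_ne_zero _ ha) h4.symm
    obtain ⟨r, hr⟩ : ∃ r, α a = r * a := ⟨α a / a, (div_mul_cancel₀ _ ha).symm⟩
    have hr0 : r ≠ 0 := fun e => hαa (by rw [hr, e, zero_mul])
    rw [hr, th_mul] at h4
    have e1 : th (m := m) r * r ^ (2 : ℕ) = 1 :=
      mul_right_cancel₀ (mul_ne_zero (th_ne_zero ha) (pow_ne_zero 2 ha)) (by
        rw [one_mul]; linear_combination h4)
    have e2 := congrArg (th (m := m)) e1
    rw [th_mul, th_th hK, th_one, pow_two, th_mul] at e2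
    have e3 : r ^ (3 : ℕ) = r ^ (4 : ℕ) := by
      linear_combination r ^ (4 : ℕ) * e2 - r ^ (3 : ℕ) * (th (m := m) r * r ^ (2 : ℕ) + 1) * e1
    have e4 : r = 1 := (mul_left_cancel₀ (pow_ne_zero 3 hr0) (by rw [mul_one, ← pow_succ]; exact e3)).symm
    rw [hr, e4, one_mul]
  have hφA : ∀ a, φ (xu hK a 0 0) = xu hK a (ν a) (ρ a) := fun a => by rw [hαρ, hα]
  have hAneg : ∀ a, φ (xu hK (-a) 0 0) = xu hK (-a) (ν a) (-ρ a) := fun a => by
    have h1 := congrArg φ (hneg a 0 0)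
    rw [map_mul, map_mul, map_inv, hψ, hφA, hneg, neg_zero] at h1
    exact h1.symm
  have hsplit : ∀ a u v : K, xu hK a u v = xu hK a 0 0 * xu hK 0 u 0 * xu hK 0 0 v := fun a u v => by
    rw [xu_mul, xu_mul, h0]
    congr 1 <;> ring
  have himg : ∀ a u v : K, φ (xu hK a u v) = xu hK a (ν a + μ u) (ρ a + v) := fun a u v => by
    rw [hsplit, map_mul, map_mul, hφA, hU, hz, xu_mul, xu_mul, h0]
    congr 1 <;> ring
  have hν0 : ν 0 = 0 := by
    have h1 := hφA 0
    rw [xu_zero, map_one, ← xu_zero hK] at h1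
    exact (xu_inj hK h1).2.1.symm
  have hμ0 : μ 0 = 0 := by
    have h1 := hU 0
    rw [xu_zero, map_one, ← xu_zero hK] at h1
    exact (xu_inj hK h1).2.1.symm
  have hρ0 : ρ 0 = 0 := by
    have h1 := hφA 0
    rw [xu_zero, map_one, ← xu_zero hK] at h1
    exact (xu_inj hK h1).2.2.symm
  have hν : ∀ a, ν a = 0 ∧ μ (th (m := m) a * a) = th (m := m) a * a := by
    intro a
    have h1 := congrArg φ (xu_mul hK a 0 0 (-a) 0 0)
    rw [map_mul, hφA, hAneg, xu_mul, himg] at h1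
    obtain ⟨-, e2, e3⟩ := xu_inj hK h1
    simp only [add_neg_cancel, hν0, zero_add, th_neg] at e2
    simp only [add_neg_cancel, hρ0, th_neg] at e3
    have e4 : a * ν a = 0 := by linear_combination e3
    have e5 : ν a = 0 := by
      rcases mul_eq_zero.1 e4 with e | e
      · rw [e, hν0]
      · exact e
    refine ⟨e5, ?_⟩
    simp only [e5, zero_add, show (0 : K) - -th (m := m) a * a = th (m := m) a * a by ring] at e2
    exact e2.symm
  have hmul : ∀ a b, μ (-(th (m := m) b * a)) = -(th (m := m) b * a) ∧ ρ (a + b) = ρ a + ρ b := by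
    intro a b
    have h1 := congrArg φ (xu_mul hK a 0 0 b 0 0)
    rw [map_mul, hφA, hφA, xu_mul, himg, (hν a).1, (hν b).1, (hν (a + b)).1] at h1
    obtain ⟨-, e2, e3⟩ := xu_inj hK h1
    constructor
    · rw [show (0 : K) + 0 - th (m := m) b * a = -(th (m := m) b * a) by ring, zero_add] at e2
      exact e2.symm
    · linear_combination -e3
  have hμ : ∀ u, μ u = u := fun u => by
    have := (hmul (-u) 1).1
    rwa [th_one, one_mul, neg_neg] at this
  have hρ1 : ∀ y : K, ρ y = th (m := m) y * y ^ (2 : ℕ) * ρ 1 := by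
    intro y
    rcases eq_or_ne y 0 with rfl | hy
    · rw [hρ0, h0]; ring
    obtain ⟨c, hc⟩ : ∃ c : Kˣ, (c : K) = th (m := m) y * y ^ (2 : ℕ) :=
      ⟨Units.mk0 _ (mul_ne_zero (th_ne_zero hy) (pow_ne_zero 2 hy)), rfl⟩
    have hχ : (c : K) ^ (2 : ℕ) * (th (m := m) (c : K))⁻¹ = y := by
      rw [hc, th_mul, th_th hK, pow_two y, th_mul]
      have := th_ne_zero (m := m) hy
      field_simp
    have e : ps hK c * xu hK 1 0 0 * (ps hK c)⁻¹ = xu hK y 0 0 := by
      rw [ps_conj, hχ, mul_one, mul_zero, mul_zero]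
    have h1 := congrArg φ e
    rw [map_mul, map_mul, map_inv, hψ, hφA, hφA, ps_conj] at h1
    rw [← (xu_inj hK h1).2.2, hc]
  have hρ : ρ 1 = 0 := by
    by_contra hne
    obtain ⟨y, hy⟩ := th_not_id hK hm
    have h1 := (hmul y 1).2
    have h2' := (hmul y (-1)).2
    rw [hρ1 (y + 1), hρ1 y] at h1
    rw [hρ1 (y + -1), hρ1 y, hρ1 (-1)] at h2'
    rw [th_add hK, th_one] at h1
    rw [th_add hK, th_neg, th_one] at h2'
    have e1 : (th (m := m) y + 1) * (y + 1) ^ (2 : ℕ) - th (m := m) y * y ^ (2 : ℕ) - 1 = 0 :=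
      (mul_eq_zero.1 (show _ * ρ 1 = 0 by linear_combination h1)).resolve_right hne
    have e2 : (th (m := m) y + -1) * (y + -1) ^ (2 : ℕ) - th (m := m) y * y ^ (2 : ℕ) + 1 = 0 :=
      (mul_eq_zero.1 (show _ * ρ 1 = 0 by linear_combination h2')).resolve_right hne
    apply hy
    refine mul_left_cancel₀ h2 ?_
    linear_combination e1 + e2 - 2 * y * h3
  intro a u v
  rw [himg, (hν a).1, hμ, hρ1, hρ]
  congr 1 <;> ring

theorem eq_one_of_fix (hm : 1 ≤ m) {φ : MulAut ↥(P hK)} (hφ : φ ∈ (twG2 hK).fixUV)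
    (hz : ∀ v, φ (xu hK 0 0 v) = xu hK 0 0 v) : φ = 1 := by
  have hU : ∀ x ∈ (twG2 hK).U1, φ x = x := fun x hx => by
    obtain ⟨t, u, v, rfl⟩ := (mem_U1_iff' hK x).1 hx
    exact fix_order_three hK hm hφ hz t u v
  have hH : ∀ x ∈ (twG2 hK).H1, φ x = x := fun x hx => by
    obtain ⟨c, rfl⟩ := (mem_H1_iff' hK x).1 hx
    exact ps_fixed hK hφ hz c
  have hV : ∀ t u v, φ ⟨xV m t u v, xV_mem m t u v⟩ = ⟨xV m t u v, xV_mem m t u v⟩ := fun t u v => by
    refine (twG2 hK).fix_V1 rfl hφ hU hH ?_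
    obtain ⟨-, -, hn⟩ := termsG2
    have hneg : ∀ r ∈ [4, 5, 3, 2, 1, 0], r < half chevG2 := by decide +kernel
    have hm' : ∀ r ∈ [4, 5, 3, 2, 1, 0], ∀ x : K, xG certG2 K r x ∈ (chevRel certG2 K).UN := fun r hr x =>
      xG_neg_mem certG2 (hneg r hr) x
    exact mul_mem (hm' 4 (by simp) _) (mul_mem (hm' 5 (by simp) _) (mul_mem (hm' 3 (by simp) _)
      (mul_mem (hm' 2 (by simp) _) (mul_mem (hm' 1 (by simp) _) (hm' 0 (by simp) _)))))
  refine MulEquiv.ext fun g => ?_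
  obtain ⟨g, hg⟩ := g
  have hg' := hg
  rw [P_eq_closure hK] at hg'
  refine Subgroup.closure_induction (p := fun g _ => ∀ hg : g ∈ P hK, φ ⟨g, hg⟩ = ⟨g, hg⟩)
    ?_ ?_ ?_ ?_ hg' hg
  · rintro _ ⟨w, ⟨t, u, v, rfl | rfl⟩, rfl⟩ hw
    · rw [show (⟨_, hw⟩ : ↥(P hK)) = xu hK t u v from Subtype.ext (wordG_reeU m t u v)]
      exact fix_order_three hK hm hφ hz t u v
    · rw [show (⟨_, hw⟩ : ↥(P hK)) = ⟨xV m t u v, xV_mem m t u v⟩ from Subtype.ext (wordG_reeV m t u v)]
      exact hV t u v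
  · intro h1
    exact map_one φ
  · intro x y hx hy ihx ihy hxy
    have hx' : x ∈ P hK := by rw [P_eq_closure hK]; exact hx
    have hy' : y ∈ P hK := by rw [P_eq_closure hK]; exact hy
    show φ (⟨x, hx'⟩ * ⟨y, hy'⟩) = ⟨x, hx'⟩ * ⟨y, hy'⟩
    rw [map_mul, ihx hx', ihy hy']
  · intro x hx ihx hxi
    have hx' : x ∈ P hK := by rw [P_eq_closure hK]; exact hx
    show φ (⟨x, hx'⟩⁻¹) = ⟨x, hx'⟩⁻¹
    rw [map_inv, ihx hx']

theorem card_P : Nat.card ↥(P hK) = (3 ^ (2 * m + 1)) ^ 3 * (3 ^ (2 * m + 1) - 1) * ((3 ^ (2 * m + 1)) ^ 3 + 1) := by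
  rw [← card_twG2 hK]
  exact Nat.card_congr (Subgroup.subgroupOfEquivOfLe (twG2_le (K := K) (m := m))).toEquiv

theorem card_U1 : Nat.card (twG2 hK).U1 = (3 ^ (2 * m + 1)) ^ 3 := by
  have e : K × K × K ≃ (twG2 hK).U1 := Equiv.ofBijective
    (fun x => ⟨xu hK x.1 x.2.1 x.2.2, (mem_U1_iff' hK _).2 ⟨_, _, _, rfl⟩⟩)
    ⟨fun x y h => by
      obtain ⟨h1, h2, h3⟩ := xu_inj hK (congrArg Subtype.val h)
      exact Prod.ext h1 (Prod.ext h2 h3),
    fun x => by
      obtain ⟨t, u, v, e⟩ := (mem_U1_iff' hK _).1 x.2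
      exact ⟨(t, u, v), Subtype.ext e.symm⟩⟩
  rw [← Nat.card_congr e, Nat.card_prod, Nat.card_prod, Nat.card_eq_fintype_card, hK]
  ring

include hK in
theorem card_out (hm : 1 ≤ m) : Nat.card (Cfsg.Out ↥(P hK)) = 2 * m + 1 := by
  haveI : Fact (Nat.Prime 3) := ⟨Nat.prime_three⟩
  rw [← (CfsgLib.Known.AutPSL.card_ringAut hK (by omega : 1 ≤ 2 * m + 1)).1]
  refine (Nat.card_eq_of_bijective ((QuotientGroup.mk' (Cfsg.Inn ↥(P hK))).comp (faHom hK)) ⟨?_, ?_⟩).symm
  · rw [injective_iff_map_eq_one]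
    intro γ hγ
    rw [MonoidHom.comp_apply, QuotientGroup.mk'_apply, QuotientGroup.eq_one_iff] at hγ
    obtain ⟨g, hg⟩ := hγ
    have hcj : ∀ x, g * x * g⁻¹ = fa hK γ x := fun x => DFunLike.congr_fun hg x
    have hfix := fa_mem_fixUV hK γ
    have hgH : g ∈ (twG2 hK).H1 := (twG2 hK).mem_H1_of_normalises
      (fun x hx => by rw [hcj]; exact ((twG2 hK).fixUV_mem_U1 hfix).2 hx)
      (fun x hx => by rw [hcj]; exact ((twG2 hK).fixUV_mem_V1 hfix).2 hx)
    obtain ⟨c, rfl⟩ := (mem_H1_iff' hK g).1 hgH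
    have hb : ∀ v : K, (c : K) * v = γ v := fun v => by
      have h1 := hcj (xu hK 0 0 v)
      rw [ps_conj, fa_xu, mul_zero, mul_zero, map_zero] at h1
      exact (xu_inj hK h1).2.2
    have hc1 := hb 1
    rw [mul_one, map_one] at hc1
    refine RingEquiv.ext fun v => ?_
    show γ v = v
    rw [← hb, hc1, one_mul]
  · intro x
    obtain ⟨φ, rfl⟩ := QuotientGroup.mk'_surjective _ x
    have hp : IsPGroup 3 (twG2 hK).U1 := IsPGroup.of_card (n := (2 * m + 1) * 3) (by rw [card_U1, ← pow_mul])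
    have hidx : ¬ 3 ∣ (twG2 hK).U1.index := by
      have h1 := (twG2 hK).U1.card_mul_index
      rw [card_U1, card_P, mul_assoc ((3 ^ (2 * m + 1)) ^ 3)] at h1
      rw [Nat.eq_of_mul_eq_mul_left (by positivity) h1]
      have h2 : 3 ∣ 3 ^ (2 * m + 1) := dvd_pow_self 3 (by omega)
      have h3 : 1 ≤ 3 ^ (2 * m + 1) := Nat.one_le_pow _ _ three_pos
      intro hd
      rcases Nat.prime_three.dvd_mul.1 hd with h | h
      · omega
      · have : 3 ∣ (3 ^ (2 * m + 1)) ^ 3 := dvd_pow h2 (by norm_num)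
        omega
    obtain ⟨g, hg⟩ := (twG2 hK).exists_mem_fixUV hp hidx φ
    obtain ⟨γ, c, hzz, hmem, hψ⟩ := exists_field hK hm hg
    have h1 := eq_one_of_fix hK hm hψ fun v => by
      rw [MulAut.mul_apply, hzz, MulAut.inv_apply_self]
    refine ⟨γ, ?_⟩
    rw [inv_mul_eq_one] at h1
    have hconj : ∀ h : ↥(P hK), (QuotientGroup.mk' (Cfsg.Inn ↥(P hK))) (MulAut.conj h) = 1 := fun h =>
      (QuotientGroup.eq_one_iff _).2 ⟨h, rfl⟩
    have h2 := congrArg (QuotientGroup.mk' (Cfsg.Inn ↥(P hK))) h1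
    rw [map_mul, map_mul, hconj, hconj, one_mul, one_mul] at h2
    exact h2

end CfsgLib.Known.TwistAut.Ree
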